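import Mathlib.AlgebraicGeometry.Morphisms.Smooth
import Mathlib.FieldTheory.Finite.Basic
import Mathlib.RingTheory.Smooth.Basic
import Mathlib.RingTheory.Localization.Away.Basic
import Mathlib.Algebra.Polynomial.CoeffList

/-!
# Rational hyperplanes are tangent to the Hermitian-type hypersurface `Σ (XᵢYᵢ^q - YᵢXᵢ^q)`
-/

set_option autoImplicit false
universe u

open MvPolynomial

namespace HermTanLib

variable {k : Type u} [Field k] [Fintype k] {n : ℕ}

/-- The form. -/
def formB {R : Type*} [CommRing R] (q : ℕ) (d : Fin (n + 1) ⊕ Fin (n + 1) → R) : R :=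
  ∑ i, (d (Sum.inl i) * d (Sum.inr i) ^ q - d (Sum.inr i) * d (Sum.inl i) ^ q)

/-- The point of tangency. -/
def pt (c : Fin (n + 1) ⊕ Fin (n + 1) → k) : Fin (n + 1) ⊕ Fin (n + 1) → k :=
  Sum.elim (fun i => - c (Sum.inr i)) (fun i => c (Sum.inl i))

omit [Fintype k] in
theorem sum_pt (c : Fin (n + 1) ⊕ Fin (n + 1) → k) : ∑ v, c v * pt c v = 0 := by
  rw [Fintype.sum_sum_type, ← Finset.sum_add_distrib]
  refine Finset.sum_eq_zero fun i _ => ?_
  simp only [pt, Sum.elim_inl, Sum.elim_inr]
  ring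

theorem formB_add {R : Type*} [CommRing R] [Algebra k R] (c : Fin (n + 1) ⊕ Fin (n + 1) → k)
    (d : Fin (n + 1) ⊕ Fin (n + 1) → R) (hd : ∑ v, algebraMap k R (c v) * d v = 0) :
    formB (Fintype.card k) (fun v => algebraMap k R (pt c v) + d v) = formB (Fintype.card k) d := by
  have hpow : ∀ x : R, FiniteField.frobeniusAlgHom k R x = x ^ Fintype.card k := fun x => rfl
  have hfix : ∀ a : k, (algebraMap k R a) ^ Fintype.card k = algebraMap k R a := fun a => by
    rw [← map_pow, FiniteField.pow_card]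
  have h0 := congrArg (FiniteField.frobeniusAlgHom k R) hd
  rw [map_zero, map_sum] at h0
  have h0' : ∑ v, algebraMap k R (c v) * d v ^ Fintype.card k = 0 := by
    refine Eq.trans (Finset.sum_congr rfl fun v _ => ?_) h0
    rw [map_mul, AlgHom.commutes, hpow]
  have hadd : ∀ x y : R, (x + y) ^ Fintype.card k = x ^ Fintype.card k + y ^ Fintype.card k := fun x y => by
    rw [← hpow, ← hpow, ← hpow, map_add]
  rw [Fintype.sum_sum_type] at hd h0'
  simp only [formB, hadd, hfix, pt, Sum.elim_inl, Sum.elim_inr]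
  simp only [map_neg]
  calc _ = ∑ i, ((d (Sum.inl i) * d (Sum.inr i) ^ Fintype.card k - d (Sum.inr i) * d (Sum.inl i) ^ Fintype.card k) +
        ((algebraMap k R (c (Sum.inl i)) * d (Sum.inl i) + algebraMap k R (c (Sum.inr i)) * d (Sum.inr i)) -
         (algebraMap k R (c (Sum.inl i)) * d (Sum.inl i) ^ Fintype.card k +
          algebraMap k R (c (Sum.inr i)) * d (Sum.inr i) ^ Fintype.card k))) :=
        Finset.sum_congr rfl fun i _ => by ring
    _ = _ := by
      simp only [Finset.sum_add_distrib, Finset.sum_sub_distrib] at hd h0' ⊢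
      linear_combination hd - h0'

theorem exists_direction (hn : 1 ≤ n) (c : Fin (n + 1) ⊕ Fin (n + 1) → k) (hc : c ≠ 0) :
    ∃ V : Fin (n + 1) ⊕ Fin (n + 1) → Polynomial k,
      ∑ v, algebraMap k (Polynomial k) (c v) * V v = 0 ∧ formB (Fintype.card k) V ≠ 0 := by
  classical
  obtain ⟨v0, hv0⟩ := Function.ne_iff.1 hc
  haveI : Nontrivial (Fin (n + 1)) := Fin.nontrivial_iff_two_le.2 (by omega)
  obtain ⟨j, hj⟩ := exists_ne (Sum.elim id id v0)
  let a : Fin (n + 1) ⊕ Fin (n + 1) → k := Pi.single (Sum.inl j) 1 - Pi.single v0 (c (Sum.inl j) / c v0)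
  let b : Fin (n + 1) ⊕ Fin (n + 1) → k := Pi.single (Sum.inr j) 1 - Pi.single v0 (c (Sum.inr j) / c v0)
  have hsingle : ∀ (x : Fin (n + 1) ⊕ Fin (n + 1)) (e : k), ∑ v, c v * (Pi.single x e : _ → k) v = c x * e := fun x e => by
    rw [Finset.sum_eq_single x] <;> simp +contextual
  have ha : ∑ v, c v * a v = 0 := by
    simp only [a, Pi.sub_apply, mul_sub, Finset.sum_sub_distrib, hsingle]
    rw [mul_div_cancel₀ _ hv0, mul_one, sub_self]
  have hb : ∑ v, c v * b v = 0 := by
    simp only [b, Pi.sub_apply, mul_sub, Finset.sum_sub_distrib, hsingle]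
    rw [mul_div_cancel₀ _ hv0, mul_one, sub_self]
  have hω : ∑ i, (a (Sum.inl i) * b (Sum.inr i) - a (Sum.inr i) * b (Sum.inl i)) = 1 := by
    rw [Finset.sum_eq_single j]
    · have h1 : Sum.inl j ≠ v0 := by rintro rfl; exact hj rfl
      have h2 : Sum.inr j ≠ v0 := by rintro rfl; exact hj rfl
      simp [a, b, h1, h2, Pi.single_eq_of_ne]
    · intro i _ hi
      rcases v0 with i0 | i0 <;> by_cases hii : i = i0
      all_goals first
        | (subst hii; simp [a, b, hi, hi.symm, Pi.single_apply]; done)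
        | (subst hii; simp [a, b, hi, hi.symm, Pi.single_apply]; ring; done)
        | (simp [a, b, hi, hii, Pi.single_apply]; done)
    · simp
  refine ⟨fun v => Polynomial.C (a v) + Polynomial.X * Polynomial.C (b v), ?_, ?_⟩
  · simp only [Polynomial.algebraMap_eq, mul_add]
    rw [Finset.sum_add_distrib]
    have e1 : ∑ v, Polynomial.C (c v) * Polynomial.C (a v) = 0 := by
      simp only [← map_mul]; rw [← map_sum, ha, map_zero]
    have e2 : ∑ v, Polynomial.C (c v) * (Polynomial.X * Polynomial.C (b v)) = 0 := by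
      simp only [mul_left_comm (Polynomial.C (c _)), ← map_mul]
      rw [← Finset.mul_sum, ← map_sum, hb, map_zero, mul_zero]
    rw [e1, e2, add_zero]
  · have hadd : ∀ (x y : k), (Polynomial.C x + Polynomial.X * Polynomial.C y) ^ Fintype.card k =
        Polynomial.C x + Polynomial.X ^ Fintype.card k * Polynomial.C y := fun x y => by
      have h := map_add (FiniteField.frobeniusAlgHom k (Polynomial k)) (Polynomial.C x) (Polynomial.X * Polynomial.C y)
      simp only [FiniteField.coe_frobeniusAlgHom, mul_pow, ← map_pow, FiniteField.pow_card] at h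
      exact h
    have hQ : formB (Fintype.card k) (fun v => Polynomial.C (a v) + Polynomial.X * Polynomial.C (b v)) =
        (Polynomial.X ^ Fintype.card k - Polynomial.X) *
          Polynomial.C (∑ i, (a (Sum.inl i) * b (Sum.inr i) - a (Sum.inr i) * b (Sum.inl i))) := by
      rw [map_sum, Finset.mul_sum]
      refine Finset.sum_congr rfl fun i _ => ?_
      rw [hadd, hadd, map_sub, map_mul, map_mul]
      ring
    rw [hQ, hω, map_one, mul_one]
    exact FiniteField.X_pow_card_sub_X_ne_zero k Fintype.one_lt_card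

theorem formB_eq_zero (V : Fin (n + 1) ⊕ Fin (n + 1) → Polynomial k)
    (d e : Fin (n + 1) ⊕ Fin (n + 1) →
      Polynomial (Polynomial k) ⧸ Ideal.span {(Polynomial.X : Polynomial (Polynomial k)) ^ (Fintype.card k + 2)})
    (he : ∀ v, d v = Ideal.Quotient.mk _ (Polynomial.X * Polynomial.C (V v)) +
      Ideal.Quotient.mk _ ((Polynomial.X : Polynomial (Polynomial k)) ^ (Fintype.card k + 1)) * e v)
    (hd : formB (Fintype.card k) d = 0) : formB (Fintype.card k) V = 0 := by
  letI := Ideal.Quotient.commRing (Ideal.span {(Polynomial.X : Polynomial (Polynomial k)) ^ (Fintype.card k + 2)})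
  have hz : ∀ (m : ℕ) (r : Polynomial (Polynomial k)), (Fintype.card k) + 2 ≤ m →
      Ideal.Quotient.mk (Ideal.span {(Polynomial.X : Polynomial (Polynomial k)) ^ (Fintype.card k + 2)}) (Polynomial.X ^ m * r) = 0 := fun m r hm => by
    rw [Ideal.Quotient.eq_zero_iff_mem, Ideal.mem_span_singleton]
    exact dvd_mul_of_dvd_left (pow_dvd_pow _ hm) r
  have hq2 : 2 ≤ (Fintype.card k) := Fintype.one_lt_card
  have hdq : ∀ v, d v ^ (Fintype.card k) = Ideal.Quotient.mk (Ideal.span {(Polynomial.X : Polynomial (Polynomial k)) ^ (Fintype.card k + 2)}) (Polynomial.X ^ (Fintype.card k) * Polynomial.C (V v ^ (Fintype.card k))) := fun v => by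
    have hadd : ∀ x y : Polynomial (Polynomial k) ⧸ (Ideal.span {(Polynomial.X : Polynomial (Polynomial k)) ^ (Fintype.card k + 2)}), (x + y) ^ (Fintype.card k) = x ^ (Fintype.card k) + y ^ (Fintype.card k) := fun x y =>
      map_add (FiniteField.frobeniusAlgHom k (Polynomial (Polynomial k) ⧸ (Ideal.span {(Polynomial.X : Polynomial (Polynomial k)) ^ (Fintype.card k + 2)}))) x y
    obtain ⟨r, hr⟩ := Ideal.Quotient.mk_surjective (e v)
    rw [he v, ← hr, hadd, ← map_mul, ← map_pow, ← map_pow, mul_pow, mul_pow, ← pow_mul,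
      hz ((Fintype.card k + 1) * Fintype.card k) _ (by nlinarith [(Fintype.one_lt_card : 1 < Fintype.card k)]),
      add_zero, Polynomial.C_pow]
  have hterm : ∀ v v', d v * d v' ^ (Fintype.card k) =
      Ideal.Quotient.mk (Ideal.span {(Polynomial.X : Polynomial (Polynomial k)) ^ (Fintype.card k + 2)}) (Polynomial.X ^ ((Fintype.card k) + 1) * Polynomial.C (V v * V v' ^ (Fintype.card k))) := fun v v' => by
    obtain ⟨r, hr⟩ := Ideal.Quotient.mk_surjective (e v)
    rw [hdq, he v, ← hr, ← map_mul, ← map_add, ← map_mul]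
    have e1 : (Polynomial.X * Polynomial.C (V v) + Polynomial.X ^ ((Fintype.card k) + 1) * r) *
        (Polynomial.X ^ (Fintype.card k) * Polynomial.C (V v' ^ (Fintype.card k))) =
        Polynomial.X ^ ((Fintype.card k) + 1) * Polynomial.C (V v * V v' ^ (Fintype.card k)) +
          Polynomial.X ^ ((Fintype.card k) + 1 + (Fintype.card k)) * (r * Polynomial.C (V v' ^ (Fintype.card k))) := by
      rw [Polynomial.C_mul]; ring
    rw [e1, map_add, hz ((Fintype.card k) + 1 + (Fintype.card k)) _ (by omega), add_zero]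
  have hfin : Ideal.Quotient.mk (Ideal.span {(Polynomial.X : Polynomial (Polynomial k)) ^ (Fintype.card k + 2)}) (Polynomial.X ^ ((Fintype.card k) + 1) * Polynomial.C (formB (Fintype.card k) V)) = 0 := by
    refine Eq.trans ?_ hd
    simp only [formB, map_sum, Finset.mul_sum]
    refine Finset.sum_congr rfl fun i _ => ?_
    rw [hterm, hterm, ← map_sub, ← mul_sub, Polynomial.C_sub]
  rw [Ideal.Quotient.eq_zero_iff_mem, Ideal.mem_span_singleton, Polynomial.X_pow_dvd_iff] at hfin
  have h := hfin ((Fintype.card k) + 1) (by omega)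
  rw [mul_comm, Polynomial.coeff_C_mul_X_pow, if_pos rfl] at h
  exact h

theorem not_smooth (hn : 1 ≤ n) (F L : MvPolynomial (Fin (n + 1) ⊕ Fin (n + 1)) k)
    (hF : F = formB (Fintype.card k) (fun v => MvPolynomial.X v))
    (c : Fin (n + 1) ⊕ Fin (n + 1) → k) (hc : c ≠ 0) (hL : L = ∑ v, MvPolynomial.C (c v) * MvPolynomial.X v) :
    ∃ w, ¬ Algebra.FormallySmooth k (Localization.Away (Ideal.Quotient.mk (Ideal.span {F, L}) (MvPolynomial.X w))) := by
  classical
  obtain ⟨V, hV, hQ⟩ := exists_direction hn c hc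
  obtain ⟨w, hw⟩ : ∃ w, pt c w ≠ 0 := by
    by_contra! h
    exact hc (funext fun v => Sum.rec (fun i => by simpa [pt] using h (Sum.inr i))
      (fun i => by simpa [pt] using h (Sum.inl i)) v)
  refine ⟨w, fun hsm => ?_⟩
  haveI := hsm
  set q := Fintype.card k with hq
  let t : Polynomial (Polynomial k) := Polynomial.X
  let J' : Ideal (Polynomial (Polynomial k)) := Ideal.span {t ^ (q + 2)}
  let J : Ideal (Polynomial (Polynomial k)) := Ideal.span {t ^ (q + 1)}
  have hJJ : J' ≤ J := Ideal.span_singleton_le_span_singleton.2 (pow_dvd_pow t (by omega))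
  letI := Ideal.Quotient.commRing J
  letI := Ideal.Quotient.commRing J'
  let π : (Polynomial (Polynomial k) ⧸ J') →ₐ[k] (Polynomial (Polynomial k) ⧸ J) := Ideal.Quotient.factorₐ k hJJ
  have hπ : Function.Surjective π := Ideal.Quotient.factor_surjective hJJ
  have hevalF : ∀ {R : Type u} [CommRing R] [Algebra k R] (x : Fin (n + 1) ⊕ Fin (n + 1) → R),
      aeval x F = formB q x := fun {R} _ _ x => by simp [hF, formB, hq]
  have hevalL : ∀ {R : Type u} [CommRing R] [Algebra k R] (x : Fin (n + 1) ⊕ Fin (n + 1) → R),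
      aeval x L = ∑ v, algebraMap k R (c v) * x v := fun {R} _ _ x => by simp [hL]
  have hsump : ∀ {R : Type u} [CommRing R] [Algebra k R] (d : Fin (n + 1) ⊕ Fin (n + 1) → R),
      ∑ v, algebraMap k R (c v) * (algebraMap k R (pt c v) + d v) = ∑ v, algebraMap k R (c v) * d v := by
    intro R _ _ d
    simp only [mul_add, Finset.sum_add_distrib, ← map_mul]
    rw [← map_sum, sum_pt, map_zero, zero_add]
  let d0 : Fin (n + 1) ⊕ Fin (n + 1) → Polynomial (Polynomial k) ⧸ J := fun v => Ideal.Quotient.mk J (t * Polynomial.C (V v))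
  let x0 : Fin (n + 1) ⊕ Fin (n + 1) → Polynomial (Polynomial k) ⧸ J := fun v => algebraMap k (Polynomial (Polynomial k) ⧸ J) (pt c v) + d0 v
  have hd0 : ∑ v, algebraMap k (Polynomial (Polynomial k) ⧸ J) (c v) * d0 v = 0 := by
    have : (Ideal.Quotient.mk J (t * Polynomial.C (∑ v, algebraMap k (Polynomial k) (c v) * V v))) = 0 := by
      rw [hV, map_zero, mul_zero, map_zero]
    rw [map_sum, Finset.mul_sum, map_sum] at this
    refine Eq.trans (Finset.sum_congr rfl fun v _ => ?_) this
    rw [map_mul Polynomial.C, mul_left_comm, map_mul (Ideal.Quotient.mk J)]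
    rfl
  have hpow0 : ∀ (R : Ideal (Polynomial (Polynomial k))) (y : (Polynomial k)), (Ideal.Quotient.mk R (t * Polynomial.C y)) ^ q =
      Ideal.Quotient.mk R (t ^ q * Polynomial.C (y ^ q)) := fun R y => by
    rw [← map_pow, mul_pow, ← map_pow]
  have hB0 : formB q d0 = 0 := by
    refine Finset.sum_eq_zero fun i _ => ?_
    simp only [d0, hpow0]
    rw [← map_mul, ← map_mul, ← map_sub, Ideal.Quotient.eq_zero_iff_mem, Ideal.mem_span_singleton]
    exact ⟨Polynomial.C (V (Sum.inl i)) * Polynomial.C (V (Sum.inr i) ^ q) -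
      Polynomial.C (V (Sum.inr i)) * Polynomial.C (V (Sum.inl i) ^ q), by rw [pow_succ]; ring⟩
  have hker : ∀ a ∈ Ideal.span {F, L}, aeval x0 a = 0 := by
    intro a ha
    refine (Ideal.span_le.2 ?_ : Ideal.span {F, L} ≤ RingHom.ker (aeval x0)) ha
    rintro y (rfl | rfl)
    · show aeval x0 _ = 0
      rw [hevalF, formB_add c d0 hd0, hB0]
    · show aeval x0 _ = 0
      rw [hevalL, hsump, hd0]
  let g0 := Ideal.Quotient.liftₐ (Ideal.span {F, L}) (aeval x0) hker
  have hunit : IsUnit (g0 (Ideal.Quotient.mk (Ideal.span {F, L}) (MvPolynomial.X w))) := by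
    show IsUnit (aeval x0 (MvPolynomial.X w))
    rw [aeval_X]
    refine IsNilpotent.isUnit_add_left_of_commute ⟨q + 1, ?_⟩ ((Ne.isUnit hw).map _) (mul_comm _ _)
    show (Ideal.Quotient.mk J (t * Polynomial.C (V w))) ^ (q + 1) = 0
    rw [← map_pow, mul_pow, Ideal.Quotient.eq_zero_iff_mem, Ideal.mem_span_singleton]
    exact Dvd.intro _ rfl
  let g : Localization.Away (Ideal.Quotient.mk (Ideal.span {F, L}) (MvPolynomial.X w)) →ₐ[k] (Polynomial (Polynomial k) ⧸ J) :=
    IsLocalization.liftAlgHom (M := Submonoid.powers (Ideal.Quotient.mk (Ideal.span {F, L}) (MvPolynomial.X w))) (f := g0)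
      (fun y => by obtain ⟨_, m, rfl⟩ := y; rw [map_pow]; exact hunit.pow m)
  have hnil : IsNilpotent (RingHom.ker (π : (Polynomial (Polynomial k) ⧸ J') →+* (Polynomial (Polynomial k) ⧸ J))) := by
    refine ⟨2, ?_⟩
    rw [show RingHom.ker (π : (Polynomial (Polynomial k) ⧸ J') →+* (Polynomial (Polynomial k) ⧸ J)) = J.map (Ideal.Quotient.mk J') from
      Ideal.Quotient.factor_ker hJJ, ← Ideal.map_pow, Ideal.span_singleton_pow, Ideal.zero_eq_bot,
      Ideal.map_span, Set.image_singleton, Ideal.span_singleton_eq_bot, Ideal.Quotient.eq_zero_iff_mem,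
      Ideal.mem_span_singleton, ← pow_mul]
    exact pow_dvd_pow t (by omega)
  let G := Algebra.FormallySmooth.liftOfSurjective g π hπ hnil
  let x' : Fin (n + 1) ⊕ Fin (n + 1) → Polynomial (Polynomial k) ⧸ J' := fun v =>
    G (algebraMap _ _ (Ideal.Quotient.mk (Ideal.span {F, L}) (MvPolynomial.X v)))
  let G0 : MvPolynomial (Fin (n + 1) ⊕ Fin (n + 1)) k →ₐ[k] (Polynomial (Polynomial k) ⧸ J') :=
    (G.comp (IsScalarTower.toAlgHom k _ _)).comp (Ideal.Quotient.mkₐ k (Ideal.span {F, L}))
  have hG0 : G0 = aeval x' := MvPolynomial.algHom_ext fun v => by rw [aeval_X]; rfl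
  have hG0' : ∀ a ∈ Ideal.span {F, L}, aeval x' a = 0 := fun a ha => by
    rw [← hG0]
    show G (algebraMap _ _ (Ideal.Quotient.mk (Ideal.span {F, L}) a)) = 0
    rw [Ideal.Quotient.eq_zero_iff_mem.2 ha, map_zero, map_zero]
  have hx' : ∀ v, π (x' v) = x0 v := fun v => by
    show π (G _) = _
    rw [Algebra.FormallySmooth.liftOfSurjective_apply]
    show IsLocalization.lift _ (algebraMap _ _ _) = _
    rw [IsLocalization.lift_eq]
    exact aeval_X _ _
  let d' : Fin (n + 1) ⊕ Fin (n + 1) → Polynomial (Polynomial k) ⧸ J' := fun v => x' v - algebraMap k (Polynomial (Polynomial k) ⧸ J') (pt c v)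
  have hd' : ∀ v, ∃ e : Polynomial (Polynomial k) ⧸ J', d' v =
      Ideal.Quotient.mk J' (t * Polynomial.C (V v)) + Ideal.Quotient.mk J' (t ^ (q + 1)) * e := by
    intro v
    have hm : d' v - Ideal.Quotient.mk J' (t * Polynomial.C (V v)) ∈ J.map (Ideal.Quotient.mk J') := by
      rw [← Ideal.Quotient.factor_ker hJJ, RingHom.mem_ker]
      show π (x' v - algebraMap k (Polynomial (Polynomial k) ⧸ J') (pt c v) - _) = 0
      rw [map_sub, map_sub, hx' v, AlgHom.commutes]
      show algebraMap k (Polynomial (Polynomial k) ⧸ J) (pt c v) + d0 v - algebraMap k (Polynomial (Polynomial k) ⧸ J) (pt c v) - d0 v = 0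
      ring
    rw [Ideal.map_span, Set.image_singleton, Ideal.mem_span_singleton] at hm
    obtain ⟨e, he⟩ := hm
    exact ⟨e, by rw [← he]; ring⟩
  have hx'd : x' = fun v => algebraMap k (Polynomial (Polynomial k) ⧸ J') (pt c v) + d' v := funext fun v => (add_sub_cancel _ _).symm
  have hsum' : ∑ v, algebraMap k (Polynomial (Polynomial k) ⧸ J') (c v) * d' v = 0 := by
    have h := hG0' L (Ideal.subset_span (by simp))
    rw [hevalL, hx'd, hsump] at h
    exact h
  have hF' : formB q d' = 0 := by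
    have h := hG0' F (Ideal.subset_span (by simp))
    rw [hevalF, hx'd, formB_add c d' hsum'] at h
    exact h
  choose e he using hd'
  exact hQ (formB_eq_zero V d' e he hF')

end HermTanLib
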